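import Cfsg.Agent.H86.Pair
import Cfsg.Agent.H868.KSL2
import Cfsg.Agent.H665.DefZero
import Cfsg.Agent.H665.NoPQ
import Cfsg.Agent.H129.CycRow
import Cfsg.Agent.S0242
import Cfsg.Agent.FastGrp
import Cfsg.Agent.Prune
set_option linter.all false
prune_inst 0x7f00000000000000000000000000000000000000000000000000000000000000000000000000000000000000000000000000000000000000000000000000000000000000000000000000000000000000003fffffffffffffffffffffffffffbeffbdffffffff
open scoped Cfsg.Agent.FastGrp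

-- part: H934/Two/RootDZ
section
/-!
# Characters of defect zero from long root elements

* `root_prod_order` : the quotient of two conjugates of a long root element has order dividing `2 p` or `|SL₂(q)|`.
* `hasDZ` : a prime `r` which divides neither `q (q² - 1)` nor the order of the centralizer of a long root element
  has a character of `r`-defect zero.
-/

set_option autoImplicit false

namespace Cfsg.Agent.H934.Two.RootDZ

open Cfsg.Lie Cfsg.Agent.ChevalleyStructure Cfsg.Agent.ChevalleyStructure.RootCombGood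
  Cfsg.Agent.ChevalleyStructure.RootWord Cfsg.Agent.ChevalleyStructure.RootVec
  Cfsg.Agent.ChevalleyStructure.RootVecTab Cfsg.Agent.ChevalleyStructure.RootSupport
  Cfsg.Agent.ChevalleyStructure.Elts Cfsg.Agent.ChevalleyStructure.BruhatSplit
  Cfsg.Agent.H86.Lev Cfsg.Agent.H86.Graded Cfsg.Agent.H86.Par Cfsg.Agent.H92.ChevCent Cfsg.Agent.H92.ChevFrob
open Cfsg.Agent.ChevalleyStructure.SL2Hom (up lo)

universe u

/-- class two -/
theorem mul_pow_class_two {G : Type*} [Group G] {x y c : G} (h : y * x = x * y * c) (hx : c * x = x * c)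
    (hy : c * y = y * c) (n : ℕ) : (x * y) ^ n = x ^ n * y ^ n * c ^ (∑ i ∈ Finset.range n, i) := by
  have h1 : ∀ n : ℕ, y ^ n * x = x * y ^ n * c ^ n := by
    intro n
    induction n with
    | zero => simp
    | succ n ih =>
      have hcy : c ^ n * y = y * c ^ n := (show Commute (c ^ n) y from (show Commute c y from hy).pow_left n).eq
      calc y ^ (n + 1) * x = y * (y ^ n * x) := by rw [pow_succ']; group
        _ = y * x * y ^ n * c ^ n := by rw [ih]; group
        _ = x * y * (c * y ^ n) * c ^ n := by rw [h]; group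
        _ = x * y * (y ^ n * c) * c ^ n := by
            rw [(show Commute c (y ^ n) from (show Commute c y from hy).pow_right n).eq]
        _ = x * y ^ (n + 1) * c ^ (n + 1) := by rw [pow_succ' y, pow_succ' c]; group
  induction n with
  | zero => simp
  | succ n ih =>
    rw [Finset.sum_range_succ]
    generalize (∑ i ∈ Finset.range n, i) = T at ih
    have hcx : Commute (c ^ T) (x * y) :=
      (Commute.mul_right (show Commute c x from hx) (show Commute c y from hy)).pow_left _
    have hcy : Commute (c ^ n) y := (show Commute c y from hy).pow_left n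
    calc (x * y) ^ (n + 1) = (x * y) ^ n * (x * y) := pow_succ _ _
      _ = x ^ n * y ^ n * c ^ T * (x * y) := by rw [ih]
      _ = x ^ n * y ^ n * (c ^ T * (x * y)) := by group
      _ = x ^ n * y ^ n * ((x * y) * c ^ T) := by rw [hcx.eq]
      _ = x ^ n * (y ^ n * x) * y * c ^ T := by group
      _ = x ^ n * (x * y ^ n * c ^ n) * y * c ^ T := by rw [h1]
      _ = x ^ n * x * y ^ n * (c ^ n * y) * c ^ T := by group
      _ = x ^ n * x * y ^ n * (y * c ^ n) * c ^ T := by rw [hcy.eq]
      _ = (x ^ n * x) * (y ^ n * y) * (c ^ n * c ^ T) := by group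
      _ = x ^ (n + 1) * y ^ (n + 1) * c ^ (T + n) := by
          rw [← pow_succ, ← pow_succ, ← pow_add, add_comm n T]

theorem class_two_pow {G : Type*} [Group G] {x y c : G} {p : ℕ} (h : y * x = x * y * c) (hx : c * x = x * c)
    (hy : c * y = y * c) (hxp : x ^ p = 1) (hyp : y ^ p = 1) (hcp : c ^ p = 1) : (x * y) ^ (2 * p) = 1 := by
  rw [mul_pow_class_two h hx hy]
  have hs : (∑ i ∈ Finset.range (2 * p), i) = p * (2 * p - 1) := by
    have h2 := Finset.sum_range_id_mul_two (2 * p)
    have h3 : (∑ i ∈ Finset.range (2 * p), i) * 2 = (p * (2 * p - 1)) * 2 := by rw [h2]; ring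
    exact Nat.eq_of_mul_eq_mul_right (by norm_num) h3
  rw [hs, pow_mul c, hcp, mul_comm 2 p, pow_mul, pow_mul, hxp, hyp]
  simp

variable {D : ChevalleyDatum} {F : Type u} [Field F]

theorem xG_pow (hD : InList D) (r : ℕ) (t : F) (n : ℕ) : xG hD r t ^ n = xG hD r (n * t) := by
  induction n with
  | zero => simp [xG_zero]
  | succ n ih => rw [pow_succ, ih, xG_add]; congr 1; push_cast; ring

theorem xG_pow_char (hD : InList D) (p : ℕ) [CharP F p] (r : ℕ) (t : F) : xG hD r t ^ p = 1 := by
  rw [xG_pow, CharP.cast_eq_zero, zero_mul, xG_zero]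

/-- the order of the product of two long root elements, one of which is the highest one -/
theorem prod_order (hD : InList D) [Finite F] {p : ℕ} [CharP F p] {isL : ℕ → Bool} (T : HiP D isL) {β : ℕ}
    (hβ : β < D.nroots) (hL : isL β = true) (s t : F) :
    (xG hD β t * xG hD (top D) s) ^ (2 * p) = 1 ∨
      (xG hD β t * xG hD (top D) s) ^ (Nat.card (Matrix.SpecialLinearGroup (Fin 2) F)) = 1 := by
  have G := good hD
  have h1 := (hiT hD).low β hβ
  rcases (show 0 ≤ car D (top D) β ∨ car D (top D) β = -1 ∨ car D (top D) β = -2 by omega) with h | h | h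
  · left
    have hc := comm_top0 hD hβ h t s
    rw [(show Commute _ _ from hc).mul_pow, mul_comm 2 p, pow_mul, pow_mul, xG_pow_char hD p, xG_pow_char hD p]
    simp
  · left
    obtain ⟨γ, c, hcom, hc1, hγL, hcom'⟩ := chkLong_spec (T.long β hβ hL h)
    have hc := checked_of_mem hD
    obtain ⟨hγ, -, -, hlev⟩ := commTerms_lin hc (lin_car hc (top D)) (r := top D) (s := β) (c := (γ, c, 1, 1))
      (by rw [hcom]; exact List.mem_singleton_self _)
    simp only [Nat.cast_one, one_mul, car_top hD, h] at hlev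
    have hlev' : car D (top D) γ = 1 := by
      show car D (top D) (γ, c, 1, 1).1 = 1
      rw [hlev]; norm_num
    clear hlev
    replace hγ : γ < D.nroots := hγ
    have hlc := long_comm hD hβ h hcom s t
    set v : F := (c : F) * (-s) * t with hv
    have hγc : xG hD γ v * xG hD (top D) s = xG hD (top D) s * xG hD γ v :=
      comm_top0 hD hγ (by omega) v s
    have hβγ : xG hD γ v * xG hD β t = xG hD β t * xG hD γ v := by
      have hne1 : γ ≠ β := by rintro rfl; omega
      have hne2 : γ ≠ D.neg β := by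
        rintro rfl
        have h2 := commTerms_rt hc (r := top D) (s := β) (u := D.neg β) (C := c) (i := 1) (j := 1)
          (by rw [hcom]; exact List.mem_singleton_self _)
        obtain ⟨h3, h4, h5, -, -, h6⟩ := h2
        have h7 := lin_car hc β (top D) β (D.neg β) (-2) 0 (top_lt hD) hβ h3 (fun i _ => by
          have h8 := h6 i
          rw [rt_neg hc hβ] at h8
          push_cast at h8
          linarith only [h8])
        have h9 := G.car_self hβ
        have h10 : car D β (top D) = -4 := by rw [h7, h9]; norm_num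
        obtain ⟨w, hw, hwe⟩ := long_to_top hD T _ β rfl hβ hL
        have h11 := car_wact G hw hβ (top_lt hD)
        rw [hwe] at h11
        have h12 := (hiT hD).low _ (wact_lt G hw (top_lt hD))
        omega
      rw [UnipProd.xG_comm hD hβ hγ hne1 hne2]
      have : D.commWord F β γ t v = [] := by
        unfold ChevalleyDatum.commWord
        rw [hcom']; rfl
      rw [this, wordG_nil, mul_one]
    -- `y x = x y c`
    have h2 := class_two_pow (p := p) hlc hγc hβγ (xG_pow_char hD p _ _) (xG_pow_char hD p _ _)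
      (xG_pow_char hD p _ _)
    -- `(x y)^n = 1` gives `(y x)^n = 1`
    have h3 : xG hD β t * xG hD (top D) s =
        (xG hD (top D) s)⁻¹ * (xG hD (top D) s * xG hD β t) * xG hD (top D) s := by group
    rw [h3]
    have h4 : ∀ (a g : GL D.Idx F) (n : ℕ), (a⁻¹ * g * a) ^ n = a⁻¹ * g ^ n * a := by
      intro a g n
      have := conj_pow (a := a⁻¹) (b := g) (i := n)
      rwa [inv_inv] at this
    rw [h4, h2]
    group
  · right
    have hβ0 : β = 0 := by
      refine (hi0 hD).top β hβ ?_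
      rw [car0 hD, h]; norm_num
    subst hβ0
    have e1 : xG hD (top D) s = (Cfsg.Agent.H92.ExcSL2.ph hD (top_lt hD) (up s) : GL D.Idx F) := by
      rw [Cfsg.Agent.H92.ExcSL2.coe_ph, Cfsg.Agent.H92.ExcSL2.phi_up hD (top_lt hD)]
    have e2 : xG hD 0 t = (Cfsg.Agent.H92.ExcSL2.ph hD (top_lt hD) (lo t) : GL D.Idx F) := by
      rw [Cfsg.Agent.H92.ExcSL2.coe_ph, Cfsg.Agent.H92.ExcSL2.phi_lo hD (top_lt hD), neg_top hD]
    rw [e1, e2, ← Subgroup.coe_mul, ← map_mul, ← Subgroup.coe_pow, ← map_pow, pow_card_eq_one', map_one,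
      Subgroup.coe_one]

/-- **The quotient of two conjugates of a long root element.** -/
theorem root_prod_order (hD : InList D) [Finite F] (p : ℕ) [CharP F p] {a b : GL D.Idx F} (ha : a ∈ D.group F)
    (hb : b ∈ D.group F) :
    ((a * xG hD (top D) 1 * a⁻¹) * (b * xG hD (top D) 1 * b⁻¹)⁻¹) ^ (2 * p) = 1 ∨
    ((a * xG hD (top D) 1 * a⁻¹) * (b * xG hD (top D) 1 * b⁻¹)⁻¹) ^
      (Nat.card (Matrix.SpecialLinearGroup (Fin 2) F)) = 1 := by
  obtain ⟨isL, T⟩ := exists_hip hD
  obtain ⟨β, hβ, hL, t, ht, u, hu, e⟩ := conj_form hD T (g := a⁻¹ * b)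
    (Subgroup.mul_mem _ (Subgroup.inv_mem _ ha) hb)
  have hux := pos_comm_top hD hu (1 : F)
  have hinv : (xG hD (top D) (1 : F))⁻¹ = xG hD (top D) (-1) := xG_inv hD _ _
  have key : (a * xG hD (top D) 1 * a⁻¹) * (b * xG hD (top D) 1 * b⁻¹)⁻¹ =
      (b * u⁻¹) * (xG hD β t * xG hD (top D) (-1)) * (b * u⁻¹)⁻¹ := by
    rw [← hinv]
    have h1 : u⁻¹ * xG hD β t * u = b⁻¹ * (a * xG hD (top D) 1 * a⁻¹) * b := by
      rw [← e]; group
    have h2 : u⁻¹ * (xG hD (top D) (1 : F))⁻¹ * u = (xG hD (top D) (1 : F))⁻¹ := by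
      have h3 : u * (xG hD (top D) (1 : F))⁻¹ = (xG hD (top D) (1 : F))⁻¹ * u :=
        (show Commute u _ from (show Commute u (xG hD (top D) (1 : F)) from hux).inv_right).eq
      rw [mul_assoc, ← h3]; group
    calc (a * xG hD (top D) 1 * a⁻¹) * (b * xG hD (top D) 1 * b⁻¹)⁻¹
        = b * (b⁻¹ * (a * xG hD (top D) 1 * a⁻¹) * b) * (xG hD (top D) (1 : F))⁻¹ * b⁻¹ := by group
      _ = b * (u⁻¹ * xG hD β t * u) * (u⁻¹ * (xG hD (top D) (1 : F))⁻¹ * u) * b⁻¹ := by rw [h1, h2]
      _ = (b * u⁻¹) * (xG hD β t * (xG hD (top D) (1 : F))⁻¹) * (b * u⁻¹)⁻¹ := by group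
  rw [key, conj_pow, conj_pow]
  rcases prod_order hD (p := p) T hβ hL (-1) t with h | h
  · left; rw [h]; group
  · right; rw [h]; group

/-- **Defect zero from a long root element.** -/
theorem hasDZ (hD : InList D) [Finite F] (p : ℕ) [CharP F p] {r : ℕ} [hr : Fact r.Prime] (h2p : ¬ r ∣ 2 * p)
    (hSL : ¬ r ∣ Nat.card (Matrix.SpecialLinearGroup (Fin 2) F)) (z : ↥(D.group F))
    (hz : (z : GL D.Idx F) = xG hD (top D) 1)
    (hc : ¬ r ∣ Nat.card (Subgroup.centralizer ({z} : Set ↥(D.group F)))) :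
    Cfsg.Agent.H665.NoPQ.HasDZ r ↥(D.group F) := by
  have : Finite (GL D.Idx F) := inferInstance
  rcases Cfsg.Agent.H665.DefZero.defectZero_or r z hc with h | ⟨g, h, hg, hh, hne, k, hk⟩
  · exact h
  exfalso
  obtain ⟨a, rfl⟩ := isConj_iff.1 hg
  obtain ⟨b, rfl⟩ := isConj_iff.1 hh
  have hk0 : k ≠ 0 := by
    rintro rfl
    rw [pow_zero, orderOf_eq_one_iff] at hk
    exact hne hk
  have key : ∀ n : ℕ, ((((a * z * a⁻¹) * (b * z * b⁻¹)⁻¹ : ↥(D.group F)) : GL D.Idx F)) ^ n = 1 → r ∣ n := by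
    intro n hn
    have h1 : ((a * z * a⁻¹) * (b * z * b⁻¹)⁻¹) ^ n = 1 := by
      apply Subtype.ext
      rw [Subgroup.coe_pow, hn, Subgroup.coe_one]
    have h2 := orderOf_dvd_of_pow_eq_one h1
    rw [hk] at h2
    exact (dvd_pow_self r hk0).trans h2
  have h3 := root_prod_order hD p (a := (a : GL D.Idx F)) (b := (b : GL D.Idx F)) a.2 b.2
  rw [← hz] at h3
  rcases h3 with h3 | h3
  · exact h2p (key _ (by simpa only [_root_.mul_inv_rev, _root_.inv_inv, _root_.Subgroup.coe_mul, _root_.InvMemClass.coe_inv] using h3))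
  · exact hSL (key _ (by simpa only [_root_.mul_inv_rev, _root_.inv_inv, _root_.Subgroup.coe_mul, _root_.InvMemClass.coe_inv] using h3))

end Cfsg.Agent.H934.Two.RootDZ
end

-- part: H934/Two/TorDZ
section
/-!
# Characters of defect zero from cyclic tori in Chevalley groups

`hasDZ_of_torus` : `T` is cyclic of order prime to the characteristic and contains the centralizers of its elements
of order `r`, where `r` does not divide `2 q (q² - 1)`.
-/

set_option autoImplicit false

namespace Cfsg.Agent.H934.Two.RootDZ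

open Cfsg.Lie Cfsg.Agent.ChevalleyStructure Cfsg.Agent.ChevalleyStructure.Elts Cfsg.Agent.H86.Par
  Cfsg.Agent.H86.Lev

universe u

theorem not_dvd_card_SL2 {F : Type u} [Field F] [Fintype F] {q r : ℕ} (hq : Fintype.card F = q) (hr : r.Prime)
    (h0 : ¬ r ∣ q) (h1 : ¬ r ∣ q - 1) (h2 : ¬ r ∣ q + 1) : ¬ r ∣ Nat.card (Matrix.SpecialLinearGroup (Fin 2) F) := by
  intro h
  have hq2 : 2 ≤ q := by rw [← hq]; exact Fintype.one_lt_card
  have h3 := Cfsg.Agent.S0242.result hq 2 (by norm_num)
  rw [Fin.prod_univ_two] at h3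
  have h4 : r ∣ (q - 1) * Nat.card (Matrix.SpecialLinearGroup (Fin 2) F) := h.mul_left _
  rw [h3] at h4
  have e1 : q ^ 2 - q ^ ((0 : Fin 2) : ℕ) = (q + 1) * (q - 1) := by
    have := Nat.sq_sub_sq q 1
    simpa only [_root_.Fin.isValue, _root_.Fin.coe_ofNat_eq_mod, _root_.Nat.zero_mod, _root_.pow_zero, _root_.one_pow] using this
  have e2 : q ^ 2 - q ^ ((1 : Fin 2) : ℕ) = q * (q - 1) := by
    show q ^ 2 - q ^ 1 = _
    rw [pow_one, pow_two, Nat.mul_sub, mul_one]
  rw [e1, e2] at h4
  rcases (Nat.Prime.dvd_mul hr).1 h4 with h5 | h5 <;> rcases (Nat.Prime.dvd_mul hr).1 h5 with h6 | h6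
  · exact h2 h6
  · exact h1 h6
  · exact h0 h6
  · exact h1 h6

variable {D : ChevalleyDatum} {F : Type u} [Field F]

theorem hasDZ_of_torus (hD : InList D) [Fintype F] (p : ℕ) [hp : Fact p.Prime] [CharP F p] {q : ℕ}
    (hq : Fintype.card F = q) {T : Subgroup ↥(D.group F)} (hT : IsCyclic T) {r : ℕ} [hr : Fact r.Prime]
    (hrT : r ∣ Nat.card T) (hcent : ∀ y ∈ T, orderOf y = r → Subgroup.centralizer {y} ≤ T)
    (hpT : ¬ p ∣ Nat.card T) (hr2 : r ≠ 2) (h0 : ¬ r ∣ q) (h1 : ¬ r ∣ q - 1) (h2 : ¬ r ∣ q + 1) :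
    Cfsg.Agent.H665.NoPQ.HasDZ r ↥(D.group F) := by
  have hfin : Finite (GL D.Idx F) := inferInstance
  let z : ↥(D.group F) := ⟨xG hD (top D) 1, xG_mem_group hD _ _⟩
  have hzp : orderOf z = p := by
    rw [← Subgroup.orderOf_coe]
    exact Cfsg.Agent.H92.ExcOrd.orderOf_xG hD (top_lt hD) p
  have hpq : p ∣ q := by
    rw [← CharP.cast_eq_zero_iff F p, ← hq]
    exact FiniteField.cast_card_eq_zero F
  refine hasDZ hD p (r := r) ?_ (not_dvd_card_SL2 hq hr.out h0 h1 h2) z rfl ?_
  · intro h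
    rcases (Nat.Prime.dvd_mul hr.out).1 h with h | h
    · exact hr2 ((Nat.prime_dvd_prime_iff_eq hr.out Nat.prime_two).1 h)
    · exact h0 (h.trans hpq)
  · intro h
    obtain ⟨⟨y, hyz⟩, hy⟩ := exists_prime_orderOf_dvd_card' (G := ↥(Subgroup.centralizer ({z} : Set ↥(D.group F)))) r h
    rw [Subgroup.orderOf_mk] at hy
    obtain ⟨g, -, hg⟩ := Cfsg.Agent.H129.CycT.centralizer_conj hT hr.out hrT hcent hy
    have h3 : z ∈ Subgroup.centralizer ({y} : Set ↥(D.group F)) := by
      rw [Subgroup.mem_centralizer_singleton_iff] at hyz ⊢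
      exact hyz.symm
    have h4 := (hg z).1 h3
    have h5 : orderOf (g * z * g⁻¹) = p := by
      rw [← hzp]
      exact (MulAut.conj g).orderOf_eq z
    apply hpT
    rw [← h5]
    have := orderOf_dvd_natCard (⟨g * z * g⁻¹, h4⟩ : T)
    rwa [Subgroup.orderOf_mk] at this

end Cfsg.Agent.H934.Two.RootDZ
end
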